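import Cfsg.Agent.H584.Ore.Build

/-!
# The blocks of `F₄(2)` for the square theorem with the side condition (S2443, S4171; for helper197)

Nodes of `chevF4`: 0, 1 short, 2, 3 long.

* `tabL`, `tabS` : the tables of the blocks `{2,3}` (long) and `{0,1}` (short);
* `comm_L` : the long block commutes with `sl hp 0`;
* `abL`, `crdL` : the data of `{0,2,3}` for `Φ (A, B) = φ A * sl hp 0 B`;
* `abS`, `crdS` : the data of `{0,1}` for the short block.
-/

set_option autoImplicit false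
set_option maxRecDepth 10000

namespace Cfsg.Agent.H537.Ore

open CoxeterSystem Cfsg Cfsg.Lie Cfsg.Agent.ChevalleyStructure Cfsg.Agent.ChevalleyStructure.CoxeterGeom
  Cfsg.Agent.ChevalleyStructure.Elts
  Cfsg.Agent.ChevalleyStructure.RootVec Cfsg.Agent.ChevalleyStructure.CoxeterGeomTypes
  Cfsg.Agent.Tits.Roots Cfsg.Agent.Tits.Core
  Cfsg.Agent.Nodes.RGDLib Cfsg.Agent.Nodes.Bruhat Cfsg.Agent.Nodes.OppDec Cfsg.Agent.Nodes.LeviDec
  Cfsg.Agent.Nodes.RGDChev Cfsg.Agent.KFacts.RgdChevCoord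
  Cfsg.Agent.Nodes.KindChev Cfsg.Agent.Nodes.ChevCls Cfsg.Agent.OddHalf.NI.ModelChev Cfsg.Agent.OddHalf.NI.Mult
  Cfsg.Agent.H162.GaussSL
  Cfsg.Agent.H584.Ore.Engine Cfsg.Agent.H584.Ore.Par Cfsg.Agent.H584.Ore.Build
open Matrix (SpecialLinearGroup)
open Matrix.SpecialLinearGroup (transvection)

/-- the long block -/
def rL : Fin 3 → Fin 3 → ℕ := ![![0, 24, 26], ![23, 0, 25], ![21, 22, 0]]

/-- the short block -/
def rS : Fin 3 → Fin 3 → ℕ := ![![0, 27, 34], ![20, 0, 33], ![13, 14, 0]]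

theorem chkL : ChkN chevF4 4 [2, 3] 3 rL := by decide +kernel

theorem chkS : ChkN chevF4 4 [0, 1] 3 rS := by decide +kernel

theorem chk0 : ChkN chevF4 4 [0] 2 (nd chevF4 0) := by decide +kernel

theorem orth : Orth chevF4 rL (nd chevF4 0) := by decide +kernel

theorem split : Split chevF4 4 [0, 2, 3] [2, 3] [0] := by decide +kernel

theorem short12 : rS 1 2 = chevF4.simple 0 := by decide +kernel

theorem short01 : ∃ j : Fin 4, j ≠ 0 ∧ 0 < vec chevF4 4 (rS 0 1) j := by decide +kernel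

theorem short02 : ∃ j : Fin 4, j ≠ 0 ∧ 0 < vec chevF4 4 (rS 0 2) j := by decide +kernel

section

universe u

variable {M : CoxeterMatrix (Fin 4)} (hp : IsType chevF4 4 M) {K : Type u} [Field K]

/-- the long block commutes with the node 0 -/
theorem comm_L {s : Fin 3 → Fin 3 → K} {φ : SpecialLinearGroup (Fin 3) K →* ↥(chevF4.group K)}
    (hφ : ∀ a b (hab : a ≠ b) c, φ (transvection hab c) = xc hp (vec chevF4 4 (rL a b)) (s a b * c)) :
    ∀ x y, Commute (φ x) (sl hp (K := K) (0 : Fin 4) y) :=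
  comm_blocks hp chkL.tab.rlt chk0.tab.rlt orth hφ (sl_tv hp 0)

section Long

variable {s : Fin 3 → Fin 3 → K} (hs : ∀ a b, s a b ≠ 0) {φ : SpecialLinearGroup (Fin 3) K →* ↥(chevF4.group K)}
  (hφ : ∀ a b (hab : a ≠ b) c, φ (transvection hab c) = xc hp (vec chevF4 4 (rL a b)) (s a b * c))
  {Φ : SpecialLinearGroup (Fin 3) K × SpecialLinearGroup (Fin 2) K →* ↥(chevF4.group K)}
  (hΦ : ∀ A B, Φ (A, B) = φ A * sl hp (0 : Fin 4) B)

include hφ hΦ in
theorem eq_coprod : Φ = φ.noncommCoprod (sl hp (0 : Fin 4)) (comm_L hp hφ) := by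
  ext1 x
  rw [MonoidHom.noncommCoprod_apply]
  exact hΦ x.1 x.2

include hs hφ hΦ

/-- the data of the nodes 0, 2, 3 -/
theorem abL {J : Set (Fin 4)} (hJ : ∀ k, k ∈ J ↔ k ≠ 1) :
    AB M.toCoxeterSystem hp.isCartan (TT chevF4 K) (XX chevF4 4 K) J Φ ((UT 3 K).prod (UT 2 K))
      ((LT 3 K).prod (LT 2 K)) := by
  have h1 : J = {k | k ∈ ([0, 2, 3] : List (Fin 4))} := by
    ext k
    rw [hJ]
    change k ≠ 1 ↔ k ∈ ([0, 2, 3] : List (Fin 4))
    revert k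
    decide
  rw [h1, eq_coprod hp hφ hΦ]
  refine ab_prod _ (ab_three hp chkL.tab hs hφ) (ab_two hp chk0.tab (fun _ _ => one_ne_zero) (sl_tv hp 0)) ?_ ?_
    (split.pos hp)
  · intro k hk
    change k ∈ ([0, 2, 3] : List (Fin 4))
    change k ∈ ([2, 3] : List (Fin 4)) at hk
    revert k
    decide
  · intro k hk
    change k ∈ ([0, 2, 3] : List (Fin 4))
    change k ∈ ([0] : List (Fin 4)) at hk
    revert k
    decide

/-- the coordinate of the node 0 -/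
theorem crdL : Crd M.toCoxeterSystem hp.isCartan (XX chevF4 4 K) 0 Φ ((UT 3 K).prod (UT 2 K)) ((LT 3 K).prod (LT 2 K))
    (fun A => A.2.1 0 1 = 0) (fun A => A.2.1 1 0 = 0) := by
  rw [eq_coprod hp hφ hΦ]
  refine crd_inr _ (crd_two hp (fun _ _ => one_ne_zero) (sl_tv hp 0) rfl rfl) (ab_three hp chkL.tab hs hφ) ?_
  change (0 : Fin 4) ∉ ([2, 3] : List (Fin 4))
  decide

end Long

section Short

variable {s : Fin 3 → Fin 3 → K} (hs : ∀ a b, s a b ≠ 0) {φ : SpecialLinearGroup (Fin 3) K →* ↥(chevF4.group K)}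
  (hφ : ∀ a b (hab : a ≠ b) c, φ (transvection hab c) = xc hp (vec chevF4 4 (rS a b)) (s a b * c))

include hs hφ

/-- the data of the nodes 0, 1 -/
theorem abS {J : Set (Fin 4)} (hJ : ∀ k, k ∈ J ↔ k = 0 ∨ k = 1) :
    AB M.toCoxeterSystem hp.isCartan (TT chevF4 K) (XX chevF4 4 K) J φ (UT 3 K) (LT 3 K) := by
  have h1 : J = {k | k ∈ ([0, 1] : List (Fin 4))} := by
    ext k
    rw [hJ]
    change (k = 0 ∨ k = 1) ↔ k ∈ ([0, 1] : List (Fin 4))
    revert k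
    decide
  rw [h1]
  exact ab_three hp chkS.tab hs hφ

/-- the coordinate of the node 0 -/
theorem crdS : Crd M.toCoxeterSystem hp.isCartan (XX chevF4 4 K) 0 φ (UT 3 K) (LT 3 K)
    (fun A => A.1 1 2 = 0) (fun A => A.1 2 1 = 0) :=
  crd_three hp chkS.tab hs hφ short12 short01 short02

end Short

end

/-! ### The forms over the field with two elements -/

section

variable {M : CoxeterMatrix (Fin 4)} (hp : IsType chevF4 4 M)

theorem int_one_ne (a b : Fin 3) : (fun _ _ => (((1 : ℤ) : ZMod 2)) : Fin 3 → Fin 3 → ZMod 2) a b ≠ 0 := by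
  rw [Int.cast_one]
  exact one_ne_zero

section

variable {φ : SpecialLinearGroup (Fin 3) (ZMod 2) →* ↥(chevF4.group (ZMod 2))}
  (hφ : ∀ a b (hab : a ≠ b) c, φ (transvection hab c) = xc hp (vec chevF4 4 (rL a b)) (((1 : ℤ) : ZMod 2) * c))
  {Φ : SpecialLinearGroup (Fin 3) (ZMod 2) × SpecialLinearGroup (Fin 2) (ZMod 2) →* ↥(chevF4.group (ZMod 2))}
  (hΦ : ∀ A B, Φ (A, B) = φ A * sl hp (0 : Fin 4) B)

include hφ hΦ

theorem abL_two {J : Set (Fin 4)} (hJ : ∀ k, k ∈ J ↔ k ≠ 1) :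
    AB M.toCoxeterSystem hp.isCartan (TT chevF4 (ZMod 2)) (XX chevF4 4 (ZMod 2)) J Φ
      ((UT 3 (ZMod 2)).prod (UT 2 (ZMod 2))) ((LT 3 (ZMod 2)).prod (LT 2 (ZMod 2))) :=
  abL hp int_one_ne hφ hΦ hJ

theorem crdL_two : Crd M.toCoxeterSystem hp.isCartan (XX chevF4 4 (ZMod 2)) 0 Φ
    ((UT 3 (ZMod 2)).prod (UT 2 (ZMod 2))) ((LT 3 (ZMod 2)).prod (LT 2 (ZMod 2)))
    (fun A => A.2.1 0 1 = 0) (fun A => A.2.1 1 0 = 0) :=
  crdL hp int_one_ne hφ hΦ

end

section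

variable {φ : SpecialLinearGroup (Fin 3) (ZMod 2) →* ↥(chevF4.group (ZMod 2))}
  (hφ : ∀ a b (hab : a ≠ b) c, φ (transvection hab c) = xc hp (vec chevF4 4 (rS a b)) (((1 : ℤ) : ZMod 2) * c))

include hφ

theorem abS_two {J : Set (Fin 4)} (hJ : ∀ k, k ∈ J ↔ k = 0 ∨ k = 1) :
    AB M.toCoxeterSystem hp.isCartan (TT chevF4 (ZMod 2)) (XX chevF4 4 (ZMod 2)) J φ (UT 3 (ZMod 2)) (LT 3 (ZMod 2)) :=
  abS hp int_one_ne hφ hJ

theorem crdS_two : Crd M.toCoxeterSystem hp.isCartan (XX chevF4 4 (ZMod 2)) 0 φ (UT 3 (ZMod 2)) (LT 3 (ZMod 2))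
    (fun A => A.1 1 2 = 0) (fun A => A.1 2 1 = 0) :=
  crdS hp int_one_ne hφ

end

end

end Cfsg.Agent.H537.Ore
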